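import Cfsg.Agent.H884.SaxU
import Cfsg.Agent.H997.PF.Rows
import Cfsg.Agent.H163.PG.Ord
import Cfsg.Agent.SporadicA.MathieuRecog
import Cfsg.Agent.S0243
import Cfsg.Agent.S2603

/-!
# S3522, row `PSU_n(q)` (helper855, task 3003)
-/

set_option autoImplicit false

namespace Cfsg.Agent.H855.PF

open Cfsg Cfsg.Agent Cfsg.Agent.H938.Sax Cfsg.Agent.H997.PF

theorem pgap_of_coatom {T : Type*} [Group T] [Finite T] (h : ∀ M : Subgroup T, IsCoatom M → PGap T M) {K : Subgroup T}
    (hK : K ≠ ⊤) : PGap T K := by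
  obtain ⟨M, hM, hKM⟩ := (eq_top_or_exists_le_coatom K).resolve_left hK
  exact Cfsg.Agent.H997.PF.pgap_mono hKM (h M hM)

/-- the special subgroups of the small unitary groups: `(n, q, v, k, l)` with `v ^ k ∣ |T|`, `v ^ (l + 1) ∤ |K|` -/
inductive Spec : ℕ → ℕ → ℕ → Prop
  | u33 : Spec 3 3 168
  | u35 : Spec 3 5 2520
  | u43a : Spec 4 3 2520
  | u43b : Spec 4 3 20160
  | u52a : Spec 5 2 660
  | u52b : Spec 5 2 7920
  | u62 : Spec 6 2 443520

theorem psu_pgap_or (tab : OrdDiv.OrderTable.{0}) (hS : ∀ (X : Type) [Group X] [Finite X] [IsSimpleGroup X], Cfsg.IsKnownSimple' X)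
    {F : Type} [Field F] [Fintype F] {n q : ℕ} (hF : Fintype.card F = q ^ 2) (hq : IsPrimePow q) (hn : 3 ≤ n)
    (h32 : ¬ (n = 3 ∧ q = 2)) (h42 : ¬ (n = 4 ∧ q = 2)) {K : Subgroup (PSU n F q)} (hK : K ≠ ⊤) :
    PGap (PSU n F q) K ∨ Spec n q (Nat.card K) := by
  have hfin : Finite (PSU n F q) := Quotient.finite _
  have hq2 := hq.two_le
  by_cases h3 : n = 3
  · subst h3
    by_cases hq3 : q = 3
    · subst hq3
      refine (H834.Sax.pgap_u33 tab hS hF K hK).imp id fun h => ?_
      rw [h]; exact .u33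
    by_cases hq5 : q = 5
    · subst hq5
      refine (H834.Sax.pgap_u35 tab hS hF K hK).imp id fun h => ?_
      rw [h]; exact .u35
    exact Or.inl (pgap_of_coatom (fun M hM => H884.Sax.pgap_psu3 hF (by omega) hq5 hM) hK)
  by_cases h43 : n = 4 ∧ q = 3
  · obtain ⟨rfl, rfl⟩ := h43
    rcases H251.Small.pgap_u43 tab hS hF K hK with h | ⟨⟨e⟩⟩ | ⟨L, _, _, hL, ⟨e⟩⟩
    · exact Or.inl h
    · right
      rw [Nat.card_congr e.toEquiv]
      have h1 : Nat.card (alternatingGroup (Fin 7)) = 2520 := by
        rw [nat_card_alternatingGroup, Nat.card_eq_fintype_card, Fintype.card_fin]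
        decide
      rw [h1]; exact .u43a
    · right
      rw [Nat.card_congr e.toEquiv]
      have h1 : Nat.card (Matrix.ProjectiveSpecialLinearGroup (Fin 3) L) = 20160 := by
        have h := S0243.result (F := L) (q := 4) hL 3 (by norm_num)
        simp only [Fin.prod_univ_three] at h
        have h2 : Nat.gcd 3 (4 - 1) * ((4 - 1) * Nat.card (Matrix.ProjectiveSpecialLinearGroup (Fin 3) L)) =
          (64 - 1) * (64 - 4) * (64 - 16) := h
        have h3 : Nat.gcd 3 (4 - 1) = 3 := by decide
        rw [h3] at h2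
        omega
      rw [h1]; exact .u43b
  by_cases h52 : n = 5 ∧ q = 2
  · obtain ⟨rfl, rfl⟩ := h52
    rcases H251.Small.pgap_u5 tab hS hF K hK with h | ⟨-, h | h⟩
    · exact Or.inl h
    · right; rw [h]; exact .u52a
    · right; rw [h]; exact .u52b
  by_cases h62 : n = 6 ∧ q = 2
  · obtain ⟨rfl, rfl⟩ := h62
    rcases H251.Small.pgap_u6 tab hS hF K hK with h | ⟨⟨e⟩⟩
    · exact Or.inl h
    · right
      rw [Nat.card_congr e.toEquiv, SporadicA.MathieuRecog.card_M22]
      exact .u62
  · exact Or.inl (H884.Sax.miss_psu tab hS hF hq (by omega) (by omega) h43 hK)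

theorem card_out {F : Type} [Field F] [Fintype F] {n q p f : ℕ} (hp : p.Prime) (hf : 1 ≤ f) (hqp : q = p ^ f)
    (hF : Fintype.card F = q ^ 2) (hn : 3 ≤ n) (h32 : ¬ (n = 3 ∧ q = 2)) :
    Nat.card (Cfsg.Out (PSU n F q)) = Nat.gcd n (q + 1) * (2 * f) := by
  have := Fact.mk hp
  obtain ⟨φ, hφ, -, hk⟩ := S2603.result hf hqp hF hn h32
  have h1 : Nat.card (Cfsg.Out (PSU n F q) ⧸ φ.ker) = 2 * f := by
    rw [Nat.card_congr (QuotientGroup.quotientKerEquivOfSurjective φ hφ).toEquiv,
      Nat.card_congr Multiplicative.toAdd, Nat.card_zmod]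
  rw [Subgroup.card_eq_card_quotient_mul_card_subgroup φ.ker, h1, hk, mul_comm]

/-- **Row `PSU_n(q)`.** -/
theorem row_psu (tab : OrdDiv.OrderTable.{0}) (hS : ∀ (X : Type) [Group X] [Finite X] [IsSimpleGroup X], Cfsg.IsKnownSimple' X)
    {F : Type} [Field F] [Fintype F] {n q : ℕ} (hF : Fintype.card F = q ^ 2) (hq : IsPrimePow q) (hn : 3 ≤ n)
    (h32 : ¬ (n = 3 ∧ q = 2)) (h42 : ¬ (n = 4 ∧ q = 2)) : Row (PSU n F q) := by
  refine .kill fun d hd hne K hK => ?_
  rcases psu_pgap_or tab hS hF hq hn h32 h42 hK with h | h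
  · exact .pgap h
  generalize hc : Nat.card K = c at h
  cases h with
  | u33 =>
    have hO := card_out (F := F) (n := 3) (q := 3) (p := 3) (f := 1) (by norm_num) le_rfl (by norm_num) hF (by norm_num) (by norm_num)
    rw [hO] at hd
    norm_num at hd
    refine .num (v := 3) (k := 3) (l := 1) (m := 0) (by norm_num) ?_ ?_ ?_ (by norm_num)
    · rw [H834.Sax.card_u33 hF]; norm_num
    · rw [hc]; norm_num
    · intro h
      have := h.trans hd
      revert this; norm_num
  | u35 =>
    have hO := card_out (F := F) (n := 3) (q := 5) (p := 5) (f := 1) (by norm_num) le_rfl (by norm_num) hF (by norm_num) (by norm_num)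
    rw [hO] at hd
    norm_num at hd
    refine .num (v := 5) (k := 3) (l := 1) (m := 0) (by norm_num) ?_ ?_ ?_ (by norm_num)
    · rw [H834.Sax.card_u35 hF]; norm_num
    · rw [hc]; norm_num
    · intro h
      have := h.trans hd
      revert this; norm_num
  | u43a =>
    have hO := card_out (F := F) (n := 4) (q := 3) (p := 3) (f := 1) (by norm_num) le_rfl (by norm_num) hF (by norm_num) (by norm_num)
    rw [hO] at hd
    norm_num at hd
    refine .num (v := 3) (k := 6) (l := 2) (m := 0) (by norm_num) ?_ ?_ ?_ (by norm_num)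
    · rw [H844.USeven.card_psu (by rw [hF]; norm_num)]; norm_num
    · rw [hc]; norm_num
    · intro h
      have := h.trans hd
      revert this; norm_num
  | u43b =>
    have hO := card_out (F := F) (n := 4) (q := 3) (p := 3) (f := 1) (by norm_num) le_rfl (by norm_num) hF (by norm_num) (by norm_num)
    rw [hO] at hd
    norm_num at hd
    refine .num (v := 3) (k := 6) (l := 2) (m := 0) (by norm_num) ?_ ?_ ?_ (by norm_num)
    · rw [H844.USeven.card_psu (by rw [hF]; norm_num)]; norm_num
    · rw [hc]; norm_num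
    · intro h
      have := h.trans hd
      revert this; norm_num
  | u52a =>
    have hO := card_out (F := F) (n := 5) (q := 2) (p := 2) (f := 1) (by norm_num) le_rfl (by norm_num) hF (by norm_num) (by norm_num)
    rw [hO] at hd hne
    norm_num at hd hne
    refine .num (v := 2) (k := 10) (l := 4) (m := 1) (by norm_num) ?_ ?_ ?_ (by norm_num)
    · rw [H251.Small.card_u5 hF]; norm_num
    · rw [hc]; norm_num
    · intro h
      have := h.trans hd
      revert this; norm_num
  | u52b =>
    have hO := card_out (F := F) (n := 5) (q := 2) (p := 2) (f := 1) (by norm_num) le_rfl (by norm_num) hF (by norm_num) (by norm_num)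
    rw [hO] at hd hne
    norm_num at hd hne
    refine .num (v := 2) (k := 10) (l := 4) (m := 1) (by norm_num) ?_ ?_ ?_ (by norm_num)
    · rw [H251.Small.card_u5 hF]; norm_num
    · rw [hc]; norm_num
    · intro h
      have := h.trans hd
      revert this; norm_num
  | u62 =>
    have hO := card_out (F := F) (n := 6) (q := 2) (p := 2) (f := 1) (by norm_num) le_rfl (by norm_num) hF (by norm_num) (by norm_num)
    rw [hO] at hd
    norm_num at hd
    refine .num (v := 3) (k := 6) (l := 2) (m := 1) (by norm_num) ?_ ?_ ?_ (by norm_num)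
    · rw [H251.Small.card_u6 hF]; norm_num
    · rw [hc]; norm_num
    · intro h
      have := h.trans hd
      revert this; norm_num

end Cfsg.Agent.H855.PF
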